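import Cfsg.Agent.H505.HT.CoTwoFive
import Cfsg.Agent.H505.HT.Inner
import Cfsg.Agent.H91.HT.CoTwoBlock
import Cfsg.Agent.H856.HT.FiveE
import Cfsg.Agent.H307.HT.Glue
import Cfsg.Agent.KFacts.CoTwo.Main

/-!
# S4933, box s.Co2.5 (helper505, helper856, helper91)
-/

set_option autoImplicit false

open Cfsg Subgroup

namespace Cfsg.Agent.H505.HT.CoTwo

open Cfsg.Agent.H316.HT

universe u

/-- All automorphisms of `Co2` are inner. -/
theorem inner_co2 {S : Type u} [Group S] (h : Spor.IsoCo2 S) (α : S ≃* S) : ∃ s : S, ∀ x : S, α x = s * x * s⁻¹ := by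
  obtain ⟨e⟩ := h
  obtain ⟨g, hg⟩ := KFacts.CoTwo.Main.allInner_iso e α
  exact ⟨g, fun x => by rw [hg]; rfl⟩

theorem card_eq : Nat.card Spor.Co2 = 5 ^ 3 * 338443370496 := by
  rw [Cfsg.Agent.Schreier.CoTwoStab.card]
  norm_num

theorem exists_pos {M : Ideal AlgInt} (hM : IsPModular 5 M) :
    ∃ χ ∈ principalBlock M Spor.Co2, 5 ∣ charDegree (χ : Spor.Co2 → ℂ) := by
  have := Cfsg.Agent.H149.Sp.CopCo.finite_co2
  obtain ⟨f, hf⟩ := exists_emb
  have h1 := loc hf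
  obtain ⟨χ, h2, h3⟩ := H856.HT.FiveE.exists_mem h1 (hF hf) hM (H91.HT.Co2.oneBlock hM h1.oz (d_z hf))
  exact ⟨χ, h2, h3⟩

theorem exists_co2 {S : Type u} [Group S] (h : Spor.IsoCo2 S) {M : Ideal AlgInt} (hM : IsPModular 5 M) :
    ∃ χ : IrrCharacter S, χ ∈ principalBlock M S ∧ vd 5 (χ : S → ℂ) = 1 := by
  have : Fact (Nat.Prime 5) := ⟨Nat.prime_five⟩
  have := Cfsg.Agent.H149.Sp.CopCo.finite_co2
  obtain ⟨e⟩ := h
  have : Finite S := Finite.of_equiv _ e.symm.toEquiv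
  refine exists_comp e ?_
  obtain ⟨χ, h1, h2, h3⟩ := H307.HT.good_of_dvd hM card_eq (by norm_num) (exists_pos hM) (a := 1) one_pos
  exact ⟨χ, h1, by omega⟩

/-- **Board box s.Co2.5.** -/
theorem row_co2_five {S : Type u} [Group S] (h : Spor.IsoCo2 S) : Row 5 S :=
  row_of_inner (inner_co2 h) fun _ hM => exists_co2 h hM

end Cfsg.Agent.H505.HT.CoTwo
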