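import Cfsg.Agent.H307.HT.McL5
import Cfsg.Agent.BpSpor.CoTwoFive
import Cfsg.Agent.H763.Wk.CoTwoFive
import Cfsg.Agent.H647.SpF.CoNotTwentyFive
import Cfsg.Agent.H104.EB.COne
import Cfsg.Agent.H702.E4.Test
import Cfsg.Agent.S0044

/-!
# S4933, `(Co2, 5)`: the local data (helper505, part B of helper856's plan)

`z = f c`, `R = P5.map f` for an embedding `f` of `McL` in `Co2`.

* `loc`      : `H702.E4.Loc 5 z R`;
* `hF`       : the elements of `R` conjugate to `z` lie in `⟨z⟩` (fixed ranks 4 and 8 on the Leech lattice);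
* `oneBlock` : `C(z)` has only one 5-block.
-/

set_option autoImplicit false
set_option linter.unusedSectionVars false

open Cfsg Subgroup Module
open scoped commutatorElement
open Cfsg.Agent.SigZeroCo2.Rank (fix mem_fix)
open Cfsg.Agent.SigZeroCo2.Lin (rep Sp)
open Cfsg.Agent.PreUniqCo.FixBound Cfsg.Agent.PreUniqCo.LatCo
open Cfsg.Agent.H149.Sp.CopCo (f2 f2_inj f2_fix finite_co2)

namespace Cfsg.Agent.H505.HT.CoTwo

open Cfsg.Agent.McLType.X275 Cfsg.Agent.McLType.Gens Cfsg.Agent.McLType.Model Cfsg.Agent.H58.McLOdd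
open Cfsg.Agent.H686.Odd.McL Cfsg.Agent.H35.TI Cfsg.Agent.H316.HT

/-! ### the embedding of `McL` -/

theorem mcl_le : Spor.McL ≤ Spor.Co2 := le_inf (inf_le_left.trans inf_le_left) inf_le_right

theorem exists_emb : ∃ f : G1 →* Spor.Co2, Function.Injective f := by
  obtain ⟨e⟩ := isoMcL_G1
  exact ⟨(Subgroup.inclusion mcl_le).comp e.toMonoidHom, (Subgroup.inclusion_injective mcl_le).comp e.injective⟩

/-- the exponent of `P5` is five -/
theorem pow_five {g : G1} (hg : g ∈ P5) : g ^ 5 = 1 := by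
  obtain ⟨i, j, k, rfl⟩ := exists_abc hg
  have h2 := abc_mul i j k i j k
  have h3 := abc_mul (i + i) (j + j) (k + k - i * j) i j k
  have h4 := abc_mul (i + i + i) (j + j + j) (k + k - i * j + k - i * (j + j)) i j k
  have h5 := abc_mul (i + i + i + i) (j + j + j + j) (k + k - i * j + k - i * (j + j) + k - i * (j + j + j)) i j k
  have e : ∀ x : G1, x ^ 5 = x * x * x * x * x := fun x => by
    simp only [pow_succ, pow_zero, one_mul]
  have z5 : ∀ (x : G1) (_ : x ^ 5 = 1) (n m : ℤ), m = 5 * n → x ^ m = 1 := by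
    intro x hx n m hm
    rw [hm, zpow_mul, show ((5 : ℤ)) = ((5 : ℕ) : ℤ) from rfl, zpow_natCast, hx, one_zpow]
  rw [e, h2, h3, h4, h5, z5 a a_pow i _ (by ring), z5 b b_pow j _ (by ring), z5 c c_pow (k - 2 * (i * j)) _ (by ring),
    one_mul, one_mul]

/-! ### the fixed ranks on the Leech lattice -/

/-- the fixed rank -/
noncomputable def d (g : Spor.Co2) : ℕ := finrank ℚ (fix (rep (f2 g)))

theorem d_conj {g h : Spor.Co2} (hc : IsConj g h) : d g = d h :=
  PreUniqCo.Facts.dim_isConj (f2.map_isConj hc)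

theorem d_cases {g : Spor.Co2} (hg : orderOf g = 5) : d g = 4 ∨ d g = 8 :=
  PreUniqCo.FiveCo.dims_five ((orderOf_injective f2 f2_inj g).trans hg)
    (CpAutCoFive.finrank_fix_ne_zero PreUniqCo.Rows.leechU_ne (f2_fix g))

theorem six {x y : Spor.Co2} (hx : x ^ 5 = 1) (hy : y ^ 5 = 1) (hxy : x * y = y * x) :
    ∃ w, 1 ≤ w ∧ d y + d (x * y ^ 0) + d (x * y ^ 1) + d (x * y ^ 2) + d (x * y ^ 3) + d (x * y ^ 4) = 24 + 5 * w := by
  have hp : ∀ {g : Spor.Co2}, g ^ 5 = 1 → rep (f2 g) ^ 5 = 1 := fun {g} h => by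
    rw [← map_pow, ← map_pow, h, map_one, map_one]
  have hc : Commute (rep (f2 x)) (rep (f2 y)) := ((show Commute x y from hxy).map f2).map rep
  have h1 := PreUniqCo.FivePair.sum_fix (hp hx) (hp hy) hc
  have hm : ∀ m : ℕ, rep (f2 x) * rep (f2 y) ^ m = rep (f2 (x * y ^ m)) := fun m => by
    rw [map_mul, map_mul, map_pow, map_pow]
  rw [hm, hm, hm, hm, hm, PreUniqCo.FiveCo.finrank_Sp] at h1
  refine ⟨_, ?_, h1⟩
  rw [Nat.one_le_iff_ne_zero]
  intro h0
  have h2 : tau Spor.leechU ∈ (fix (rep (f2 x)) ⊓ fix (rep (f2 y)) : Submodule ℚ Sp) :=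
    ⟨mem_fix_tau.2 (f2_fix x), mem_fix_tau.2 (f2_fix y)⟩
  rw [Submodule.finrank_eq_zero.1 h0, Submodule.mem_bot] at h2
  exact PreUniqCo.Rows.leechU_ne (tau_injective (by rw [h2, map_zero]))

section

variable {f : G1 →* Spor.Co2} (hf : Function.Injective f)
include hf

theorem card_co2 : Nat.card Spor.Co2 = 42305421312000 := Cfsg.Agent.Schreier.CoTwoStab.card

theorem mem_R {r : Spor.Co2} : r ∈ P5.map f ↔ ∃ u ∈ P5, f u = r := Iff.rfl

/-- **the local data** -/
theorem loc : H702.E4.Loc 5 (f c) (P5.map f) where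
  oz := by rw [orderOf_injective f hf, order_c]
  cR := by
    rw [Nat.card_congr (P5.equivMapOfInjective f hf).symm.toEquiv, card_P5]
    norm_num
  Rz := by
    rintro r ⟨u, hu, rfl⟩
    rw [mem_centralizer_singleton_iff, ← map_mul, ← map_mul, H307.HT.McL5.z_comm hu]
  zR := ⟨c, c_mem, rfl⟩
  na := by
    refine ⟨f a, ⟨a, a_mem, rfl⟩, f b, ⟨b, b_mem, rfl⟩, fun h => c_ne ?_⟩
    rw [← map_mul, ← map_mul] at h
    rw [c, commutatorElement_eq_one_iff_mul_comm]
    exact hf h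
  ex := by
    rintro r ⟨u, hu, rfl⟩
    rw [← map_pow, pow_five hu, map_one]
  h4 := by
    rw [Cfsg.Agent.Schreier.CoTwoStab.card]
    norm_num
  rat := by
    intro k hk
    rw [← map_pow]
    refine f.map_isConj (H307.HT.McL5.conj_c (pow_mem (mem_zpowers c) k) fun h => hk ?_)
    rw [← order_c]
    exact orderOf_dvd_of_pow_eq_one h

theorem dims {r : Spor.Co2} (hr : r ∈ P5.map f) (hrz : r ∉ zpowers (f c)) : d (f c) = 4 ∧ d r = 8 := by
  have := finite_co2
  have : Fact (Nat.Prime 5) := ⟨Nat.prime_five⟩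
  have L := loc hf
  have h5 : orderOf r = 5 := orderOf_eq_prime (L.ex r hr) fun h => hrz (by rw [h]; exact one_mem _)
  obtain ⟨w, hw, h⟩ := six (L.ex r hr) (L.ex _ L.zR) (mem_centralizer_singleton_iff.1 (L.Rz hr))
  have hm : ∀ m : ℕ, d (r * f c ^ m) = d r := by
    intro m
    obtain ⟨s, -, hs⟩ := L.conj_mul hr hrz (pow_mem (mem_zpowers (f c)) m)
    rw [← hs]
    exact (d_conj (isConj_iff.2 ⟨s, rfl⟩)).symm
  rw [hm, hm, hm, hm, hm] at h
  rcases d_cases h5 with h1 | h1 <;> rcases d_cases L.oz with h2 | h2 <;> omega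

theorem fa_notMem : f a ∉ zpowers (f c) := by
  rintro ⟨k, hk⟩
  have h1 : f (c ^ k) = f a := by rw [map_zpow]; exact hk
  exact a_notMem ⟨k, hf h1⟩

theorem d_z : d (f c) = 4 := (dims hf ⟨a, a_mem, rfl⟩ (fa_notMem hf)).1

/-- **the noncentral elements of `R` are not conjugate to `z`** -/
theorem hF : ∀ r ∈ P5.map f, IsConj (f c) r → r ∈ zpowers (f c) := by
  intro r hr hc
  by_contra hcon
  have h1 := dims hf hr hcon
  have h2 := d_conj hc
  omega

end

end Cfsg.Agent.H505.HT.CoTwo
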